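import Groth.Agent.Alg6.LocLoc
import Mathlib.RingTheory.Regular.Flat
import Mathlib

/-!
# Localization of quotients by regular elements and spreading out of regular sequences
-/

set_option autoImplicit false
set_option linter.style.haveILetI false

universe u

open RingTheory.Sequence

namespace Groth.Agent.H1Quot

variable {A : Type u} [CommRing A] (x : A) (M : Type u) [AddCommGroup M] [Module A M] (p : Ideal A) [p.IsPrime]

/-- The localization of `M/xM`. -/
theorem exists_quot_equiv :
    Nonempty (LocalizedModule p.primeCompl (QuotSMulTop x M) ≃ₗ[Localization.AtPrime p]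
      QuotSMulTop (algebraMap A (Localization.AtPrime p) x) (LocalizedModule p.primeCompl M)) := by
  let S := Localization.AtPrime p
  let f := LocalizedModule.mkLinearMap p.primeCompl M
  have hf : IsBaseChange S f := IsLocalizedModule.isBaseChange p.primeCompl S f
  have e := (QuotSMulTop.algebraMapTensorEquivTensorQuotSMulTop x M S).symm ≪≫ₗ
    QuotSMulTop.congr ((algebraMap A S) x) hf.equiv
  exact ⟨(IsLocalizedModule.isBaseChange p.primeCompl S
    (LocalizedModule.mkLinearMap p.primeCompl (QuotSMulTop x M))).equiv.symm ≪≫ₗ e⟩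

/-- Regular sequences on a localization spread out to the nearby primes. -/
theorem exists_spread [IsNoetherianRing A] : ∀ (rs : List A) (M : Type u) [AddCommGroup M] [Module A M]
    [Module.Finite A M],
    IsWeaklyRegular (LocalizedModule p.primeCompl M) (rs.map (algebraMap A (Localization.AtPrime p))) →
    ∃ g : A, g ∉ p ∧ ∀ (q : Ideal A) [q.IsPrime], g ∉ q →
      IsWeaklyRegular (LocalizedModule q.primeCompl M) (rs.map (algebraMap A (Localization.AtPrime q))) := by
  intro rs
  induction rs with
  | nil =>
    intro M _ _ _ _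
    exact ⟨1, fun h => ‹p.IsPrime›.ne_top ((Ideal.eq_top_iff_one p).2 h), fun q _ _ => IsWeaklyRegular.nil _ _⟩
  | cons x rs ih =>
    intro M _ _ _ h
    rw [List.map_cons, isWeaklyRegular_cons_iff] at h
    obtain ⟨e⟩ := exists_quot_equiv x M p
    obtain ⟨g, hg, hq⟩ := ih (QuotSMulTop x M) ((e.isWeaklyRegular_congr _).2 h.2)
    let K : Submodule A M := LinearMap.ker (x • LinearMap.id)
    have hK : ∀ m : K, ∃ c : A, c ∉ p ∧ c • (m : M) = 0 := by
      intro m
      have hx : x • (m : M) = 0 := m.2
      have h0 : algebraMap A (Localization.AtPrime p) x • LocalizedModule.mkLinearMap p.primeCompl M (m : M) = 0 := by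
        rw [algebraMap_smul, ← map_smul, hx, map_zero]
      have := (IsLocalizedModule.eq_zero_iff p.primeCompl (LocalizedModule.mkLinearMap p.primeCompl M)).1
        ((isSMulRegular_iff_right_eq_zero_of_smul.1 h.1) _ h0)
      obtain ⟨c, hc⟩ := this
      exact ⟨c, c.2, hc⟩
    obtain ⟨gen, hgen⟩ := IsNoetherian.noetherian K
    choose c hc hc0 using fun m : {m // m ∈ gen} =>
      hK ⟨m.1, hgen ▸ Submodule.subset_span m.2⟩
    let d : A := ∏ m, c m
    have hd : ∀ m ∈ K, d • m = 0 := by
      intro m hm
      rw [← hgen] at hm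
      induction hm using Submodule.span_induction with
      | mem m hm =>
        obtain ⟨d', hd'⟩ : c ⟨m, hm⟩ ∣ d := Finset.dvd_prod_of_mem _ (Finset.mem_univ _)
        rw [hd', mul_comm, mul_smul, hc0 ⟨m, hm⟩, smul_zero]
      | zero => rw [smul_zero]
      | add a b _ _ ha hb => rw [smul_add, ha, hb, add_zero]
      | smul r a _ ha => rw [smul_comm, ha, smul_zero]
    refine ⟨g * d, fun hm => (‹p.IsPrime›.mem_or_mem hm).elim hg
      (fun hm' => by
        obtain ⟨m, -, hm''⟩ := ‹p.IsPrime›.prod_mem_iff.1 hm'
        exact hc m hm''), fun q hq' hgd => ?_⟩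
    rw [List.map_cons, isWeaklyRegular_cons_iff]
    refine ⟨isSMulRegular_iff_right_eq_zero_of_smul.2 fun z hz => ?_, ?_⟩
    · induction z using LocalizedModule.induction_on with
      | h m s =>
        rw [algebraMap_smul, LocalizedModule.smul'_mk, ← LocalizedModule.zero_mk s, LocalizedModule.mk_eq] at hz
        obtain ⟨t, ht⟩ := hz
        simp only [smul_zero, Submonoid.smul_def] at ht
        have htm : ((t : A) * (s : A)) • m ∈ K := by
          show x • ((t : A) * (s : A)) • m = 0
          rw [smul_comm, mul_smul]
          exact ht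
        rw [← LocalizedModule.zero_mk s, LocalizedModule.mk_eq]
        refine ⟨⟨d * t, fun hh => (hq'.mem_or_mem hh).elim (fun hh' => hgd (q.mul_mem_left _ hh')) t.2⟩, ?_⟩
        simp only [smul_zero, Submonoid.smul_def]
        rw [mul_smul, ← mul_smul (t : A)]
        exact hd _ htm
    · obtain ⟨e'⟩ := exists_quot_equiv x M q
      exact (e'.isWeaklyRegular_congr _).1 (hq q fun hh => hgd (q.mul_mem_right _ hh))

end Groth.Agent.H1Quot
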